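import Groth.Agent.PruferCoh.Linear
import Groth.Agent.FlatLocus.Model

/-!
# Graded saturated submodules of free modules over polynomial rings over Prüfer domains are finitely generated
-/

universe u

open Finset MvPolynomial

namespace Groth.Agent.PruferCoh

theorem mk_eq_zero {A M : Type*} [CommRing A] {S : Submonoid A} [AddCommGroup M] [Module A M]
    {x : M} {s : S} : LocalizedModule.mk x s = 0 ↔ ∃ u : S, (u : A) • x = 0 := by
  rw [← LocalizedModule.zero_mk s, LocalizedModule.mk_eq]
  constructor
  · rintro ⟨u, hu⟩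
    exact ⟨u * s, by simpa [Submonoid.smul_def, mul_smul] using hu⟩
  · rintro ⟨u, hu⟩
    exact ⟨u, by simp only [Submonoid.smul_def, smul_zero]; rw [smul_comm, hu, smul_zero]⟩

section Comp

variable {R : Type u} [CommRing R] {σ : Type} {ι : Type}

/-- Degree `d` part of a vector of polynomials. -/
noncomputable def comp (d : ℕ) : (ι → MvPolynomial σ R) →ₗ[R] (ι → MvPolynomial σ R) :=
  (homogeneousComponent d).compLeft ι

theorem comp_apply (d : ℕ) (F : ι → MvPolynomial σ R) (i : ι) :
    comp d F i = homogeneousComponent d (F i) := rfl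

theorem comp_comp (d e : ℕ) (F : ι → MvPolynomial σ R) :
    comp d (comp e F) = if d = e then comp e F else 0 := by
  funext i
  rw [comp_apply, comp_apply, homogeneousComponent_of_mem (homogeneousComponent_mem _ _)]
  split <;> simp [comp_apply]

theorem sum_comp [Fintype ι] (F : ι → MvPolynomial σ R) :
    ∃ D : ℕ, (∑ d ∈ range D, comp d F) = F := by
  classical
  refine ⟨(univ.sup fun i => (F i).totalDegree) + 1, funext fun i => ?_⟩
  rw [Finset.sum_apply]
  simp only [comp_apply]
  conv_rhs => rw [← sum_homogeneousComponent (F i)]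
  refine (sum_subset (range_subset_range.2 (Nat.succ_le_succ (le_sup (f := fun i => (F i).totalDegree) (mem_univ i))))
    fun d _ hd => homogeneousComponent_eq_zero _ _ ?_).symm
  rw [mem_range, not_lt] at hd
  omega

theorem comp_smul_of_homogeneous {e : ℕ} (a : MvPolynomial σ R) {F : ι → MvPolynomial σ R}
    (hF : comp e F = F) (d : ℕ) :
    ∃ b : MvPolynomial σ R, comp d (a • F) = b • F ∧ (d = e → b = C (a.coeff 0)) := by
  classical
  refine ⟨if e ≤ d then homogeneousComponent (d - e) a else 0, funext fun i => ?_, fun h => ?_⟩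
  · have hFi : (F i).IsHomogeneous e := by
      rw [← hF, comp_apply]
      exact homogeneousComponent_isHomogeneous _ _
    rw [comp_apply, Pi.smul_apply, Pi.smul_apply, smul_eq_mul, smul_eq_mul]
    conv_lhs => rw [← sum_homogeneousComponent a, sum_mul, map_sum]
    have key : ∀ j, homogeneousComponent d (homogeneousComponent j a * F i) =
        if d = j + e then homogeneousComponent j a * F i else 0 := fun j =>
      homogeneousComponent_of_mem ((homogeneousComponent_isHomogeneous j a).mul hFi)
    simp only [key]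
    by_cases hed : e ≤ d
    · rw [if_pos hed, sum_eq_single (d - e)]
      · rw [if_pos (by omega)]
      · intro j _ hj
        rw [if_neg (by omega)]
      · intro hj
        rw [homogeneousComponent_eq_zero _ _ (by rw [mem_range, not_lt] at hj; omega)]
        simp
    · rw [if_neg hed, zero_mul]
      exact sum_eq_zero fun j _ => by rw [if_neg (by omega)]
  · subst h
    rw [if_pos le_rfl, Nat.sub_self, homogeneousComponent_zero]

theorem comp_map {S : Type u} [CommRing S] (f : R →+* S) (d : ℕ) (F : ι → MvPolynomial σ R) (i : ι) :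
    MvPolynomial.map f (comp d F i) = homogeneousComponent d (MvPolynomial.map f (F i)) := by
  classical
  ext e
  rw [coeff_map, comp_apply, coeff_homogeneousComponent, coeff_homogeneousComponent, coeff_map]
  split <;> simp

/-- A span of homogeneous vectors is graded. -/
theorem comp_mem_span {T : Set (ι → MvPolynomial σ R)} (hT : ∀ t ∈ T, ∃ e, comp e t = t)
    {F : ι → MvPolynomial σ R} (hF : F ∈ Submodule.span (MvPolynomial σ R) T) (d : ℕ) :
    comp d F ∈ Submodule.span (MvPolynomial σ R) T := by
  suffices h : ∀ a : MvPolynomial σ R, comp d (a • F) ∈ Submodule.span (MvPolynomial σ R) T by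
    simpa using h 1
  induction hF using Submodule.span_induction with
  | mem t ht =>
    intro a
    obtain ⟨e, he⟩ := hT t ht
    obtain ⟨b, hb, -⟩ := comp_smul_of_homogeneous a he d
    rw [hb]
    exact Submodule.smul_mem _ _ (Submodule.subset_span ht)
  | zero => intro a; simp
  | add x y _ _ hx hy => intro a; rw [smul_add, map_add]; exact add_mem (hx a) (hy a)
  | smul c x _ ih => intro a; rw [smul_smul]; exact ih _

end Comp

variable {R : Type u} [CommRing R] [IsDomain R] {σ : Type} [Finite σ] {ι : Type} [Fintype ι]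
  (hR : ∀ (p : Ideal R) [p.IsPrime], ValuationRing (Localization.AtPrime p))
  (N : Submodule (MvPolynomial σ R) (ι → MvPolynomial σ R))
  (hgr : ∀ F ∈ N, ∀ d, comp d F ∈ N)
  (hsat : ∀ (c : R) (F : ι → MvPolynomial σ R), c ≠ 0 → c • F ∈ N → F ∈ N)

include hR hgr hsat

/-- Finitely many homogeneous elements generating locally at a maximal ideal. -/
theorem exists_local_generators (m : Ideal R) [m.IsMaximal] :
    ∃ T : Finset (ι → MvPolynomial σ R), ↑T ⊆ (N : Set (ι → MvPolynomial σ R)) ∧
      (∀ t ∈ T, ∃ e, comp e t = t) ∧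
      ∀ F ∈ N, ∀ d, ∃ δ ∉ m, δ • comp d F ∈ Submodule.span (MvPolynomial σ R) (T : Set (ι → MvPolynomial σ R)) := by
  classical
  letI : Field (R ⧸ m) := Ideal.Quotient.field m
  let π : MvPolynomial σ R →+* MvPolynomial σ (R ⧸ m) := MvPolynomial.map (Ideal.Quotient.mk m)
  let Φ : (ι → MvPolynomial σ R) → (ι → MvPolynomial σ (R ⧸ m)) := fun F i => π (F i)
  obtain ⟨T0, hT0, hT0span⟩ := (Submodule.fg_span_iff_fg_span_finset_subset _).1
    (IsNoetherian.noetherian (Submodule.span (MvPolynomial σ (R ⧸ m)) (Φ '' (N : Set (ι → MvPolynomial σ R)))))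
  choose! pre hpre using fun y (hy : y ∈ T0) => hT0 hy
  choose D hD using fun F : ι → MvPolynomial σ R => sum_comp F
  let T : Finset (ι → MvPolynomial σ R) :=
    T0.biUnion fun y => (range (D (pre y))).image fun d => comp d (pre y)
  have hTN : ↑T ⊆ (N : Set (ι → MvPolynomial σ R)) := fun t ht => by
    obtain ⟨y, hy, ht'⟩ := mem_biUnion.1 ht
    obtain ⟨d, -, rfl⟩ := mem_image.1 ht'
    exact hgr _ (hpre y hy).1 d
  have hThom : ∀ t ∈ T, ∃ e, comp e t = t := fun t ht => by
    obtain ⟨y, hy, ht'⟩ := mem_biUnion.1 ht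
    obtain ⟨d, -, rfl⟩ := mem_image.1 ht'
    exact ⟨d, by rw [comp_comp, if_pos rfl]⟩
  let N'' := Submodule.span (MvPolynomial σ R) (T : Set (ι → MvPolynomial σ R))
  have hpreN : ∀ y ∈ T0, pre y ∈ N'' := fun y hy => by
    rw [← hD (pre y)]
    exact N''.sum_mem fun d hd => Submodule.subset_span (mem_biUnion.2 ⟨y, hy, mem_image.2 ⟨d, hd, rfl⟩⟩)
  have hlift : ∀ z ∈ Submodule.span (MvPolynomial σ (R ⧸ m)) (T0 : Set (ι → MvPolynomial σ (R ⧸ m))),
      ∃ g ∈ N'', Φ g = z := by
    intro z hz
    induction hz using Submodule.span_induction with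
    | mem y hy => exact ⟨pre y, hpreN y hy, (hpre y hy).2⟩
    | zero => exact ⟨0, zero_mem _, funext fun i => map_zero π⟩
    | add x y _ _ hx hy =>
      obtain ⟨a, ha, rfl⟩ := hx
      obtain ⟨b, hb, rfl⟩ := hy
      exact ⟨a + b, add_mem ha hb, funext fun i => map_add π _ _⟩
    | smul c x _ hx =>
      obtain ⟨a, ha, rfl⟩ := hx
      obtain ⟨c, rfl⟩ := MvPolynomial.map_surjective _ Ideal.Quotient.mk_surjective c
      exact ⟨c • a, N''.smul_mem c ha, funext fun i => map_mul π _ _⟩
  refine ⟨T, hTN, hThom, fun F hF d => ?_⟩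
  -- coordinates in degree `d`
  haveI : Fintype {e : σ →₀ ℕ // e.degree = d} := (Finsupp.finite_of_degree_eq d).fintype
  let J := ULift.{u} (ι × {e : σ →₀ ℕ // e.degree = d})
  let poly : (J → R) →ₗ[R] (ι → MvPolynomial σ R) :=
    { toFun := fun v i => ∑ e : {e : σ →₀ ℕ // e.degree = d}, monomial e.1 (v ⟨(i, e)⟩)
      map_add' := fun v w => funext fun i => by simp [sum_add_distrib]
      map_smul' := fun c v => funext fun i => by simp [smul_sum, smul_monomial] }
  let coord : (ι → MvPolynomial σ R) → (J → R) := fun G j => (G j.down.1).coeff j.down.2.1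
  have hcp : ∀ v, coord (poly v) = v := fun v => by
    funext j
    simp only [coord, poly, LinearMap.coe_mk, AddHom.coe_mk, coeff_sum, coeff_monomial]
    rw [Finset.sum_eq_single j.down.2]
    · simp
      rfl
    · intro e _ he
      rw [if_neg fun h => he (Subtype.ext h)]
    · simp
  have hcoe : ∀ G i (e : σ →₀ ℕ), (poly (coord G) i).coeff e = (comp d G i).coeff e := by
    intro G i e
    simp only [poly, coord, LinearMap.coe_mk, AddHom.coe_mk, coeff_sum, coeff_monomial, comp_apply,
      coeff_homogeneousComponent]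
    by_cases he : e.degree = d
    · rw [if_pos he, Finset.sum_eq_single ⟨e, he⟩]
      · simp
      · intro e' _ h'
        rw [if_neg fun h => h' (Subtype.ext h)]
      · simp
    · rw [if_neg he]
      exact sum_eq_zero fun e' _ => if_neg fun h : e'.1 = e => he (by rw [← h]; exact e'.2)
  have hpc : ∀ G, poly (coord G) = comp d G := fun G => funext fun i => MvPolynomial.ext _ _ (hcoe G i)
  obtain ⟨δ, hδ, hmem⟩ := exists_smul_mem hR m
    ((N.restrictScalars R).comap poly) ((N''.restrictScalars R).comap poly)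
    (Submodule.comap_mono (Submodule.restrictScalars_mono (R := MvPolynomial σ R) (S := R)
      (Submodule.span_le.2 hTN)))
    (fun c v hc hv => hsat c (poly v) hc (by
      have : poly (c • v) ∈ N := hv
      rwa [map_smul] at this))
    (fun v hv => by
      have hv' : poly v ∈ N := hv
      obtain ⟨g, hg, hgΦ⟩ := hlift (Φ (poly v)) (hT0span ▸ Submodule.subset_span ⟨poly v, hv', rfl⟩)
      refine ⟨coord g, ?_, fun j => ?_⟩
      · show poly (coord g) ∈ N''
        rw [hpc]
        exact comp_mem_span hThom hg d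
      · rw [← Ideal.Quotient.eq]
        have h1 := congrArg (MvPolynomial.coeff j.down.2.1) (congrFun hgΦ j.down.1)
        simp only [Φ, π, coeff_map] at h1
        rw [show v j = coord (poly v) j by rw [hcp]]
        exact h1.symm)
    (coord F) (by
      show poly (coord F) ∈ N
      rw [hpc]
      exact hgr F hF d)
  refine ⟨δ, hδ, ?_⟩
  have h : poly (δ • coord F) ∈ N'' := hmem
  rwa [map_smul, hpc] at h

open scoped TensorProduct in
theorem fg_of_graded : N.FG := by
  classical
  choose T hTN hThom hTgen using fun m : MaximalSpectrum R =>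
    exists_local_generators hR N hgr hsat m.asIdeal
  let N'' : MaximalSpectrum R → Submodule (MvPolynomial σ R) (ι → MvPolynomial σ R) := fun m =>
    Submodule.span _ (T m : Set (ι → MvPolynomial σ R))
  have hle : ∀ m, N'' m ≤ N := fun m => Submodule.span_le.2 (hTN m)
  -- an open set of maximal ideals at which `N'' m` is saturated
  have key : ∀ m : MaximalSpectrum R, ∃ a : R, a ∉ m.asIdeal ∧ ∀ m' : MaximalSpectrum R,
      a ∉ m'.asIdeal → ∀ F ∈ N, ∀ d, ∃ δ ∉ m'.asIdeal, δ • comp d F ∈ N'' m := by
    intro m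
    haveI : Module.FinitePresentation (MvPolynomial σ R) ((ι → MvPolynomial σ R) ⧸ N'' m) :=
      Module.finitePresentation_of_surjective (N'' m).mkQ (N'' m).mkQ_surjective
        (by rw [Submodule.ker_mkQ]; exact Submodule.fg_span (T m).finite_toSet)
    let q0 : MaximalSpectrum R → Ideal (MvPolynomial σ R) := fun m' =>
      Ideal.comap MvPolynomial.constantCoeff m'.asIdeal
    haveI : ∀ m', (q0 m').IsPrime := fun m' => Ideal.IsPrime.comap _
    have hflat : Module.Flat R (LocalizedModule (q0 m).primeCompl ((ι → MvPolynomial σ R) ⧸ N'' m)) := by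
      refine flat_of_torsionFree_local hR m.asIdeal (fun c x hc hx => ?_) (fun s hs x => ?_)
      · induction x using LocalizedModule.induction_on with
        | _ z u =>
          obtain ⟨F, rfl⟩ := Submodule.Quotient.mk_surjective _ z
          rw [LocalizedModule.smul'_mk] at hx
          obtain ⟨⟨w, hw⟩, hw'⟩ := mk_eq_zero.1 hx
          rw [← Submodule.Quotient.mk_smul, ← Submodule.Quotient.mk_smul,
            Submodule.Quotient.mk_eq_zero, smul_comm] at hw'
          have hwF : w • F ∈ N := hsat c _ hc (hle m hw')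
          obtain ⟨D, hD⟩ := sum_comp (w • F)
          choose δ hδ hδmem using fun d => hTgen m (w • F) hwF d
          have hprod : (∏ d ∈ range D, δ d) • (w • F) ∈ N'' m := by
            rw [← hD, smul_sum]
            refine Submodule.sum_mem _ fun d hd => ?_
            rw [← prod_erase_mul _ _ hd, mul_smul]
            exact Submodule.smul_of_tower_mem _ _ (hδmem d)
          refine mk_eq_zero.2 ⟨⟨C (∏ d ∈ range D, δ d) * w, ?_⟩, ?_⟩
          · refine (q0 m).primeCompl.mul_mem (fun h => ?_) hw
            have : (∏ d ∈ range D, δ d) ∈ m.asIdeal := by simpa [q0] using h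
            obtain ⟨d, -, hd⟩ := (Ideal.IsPrime.prod_mem_iff).1 this
            exact hδ d hd
          · rw [← Submodule.Quotient.mk_smul, Submodule.Quotient.mk_eq_zero]
            show (C (∏ d ∈ range D, δ d) * w) • F ∈ N'' m
            rwa [mul_smul, ← MvPolynomial.algebraMap_eq, algebraMap_smul]
      · induction x using LocalizedModule.induction_on with
        | _ z u =>
          refine ⟨LocalizedModule.mk z ((⟨C s, fun h => hs (by
            simp only [q0, SetLike.mem_coe, Ideal.mem_comap, constantCoeff_C] at h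
            exact h)⟩ : (q0 m).primeCompl) * u), ?_⟩
          rw [← algebraMap_smul (MvPolynomial σ R) s, MvPolynomial.algebraMap_eq, LocalizedModule.smul'_mk]
          exact LocalizedModule.mk_eq.2 ⟨1, by simp only [Submonoid.smul_def, Submonoid.coe_mul, Submonoid.coe_one, one_smul, mul_smul]; exact smul_comm _ _ _⟩
    obtain ⟨_, ⟨a, rfl⟩, hqa, hsub⟩ := PrimeSpectrum.isTopologicalBasis_basic_opens.exists_subset_of_mem_open
      (show (⟨q0 m, inferInstance⟩ : PrimeSpectrum (MvPolynomial σ R)) ∈ _ from hflat)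
      (FlatLocus.isOpen_flatLocus (B := R) (S := MvPolynomial σ R) (M := (ι → MvPolynomial σ R) ⧸ N'' m))
    refine ⟨constantCoeff a, hqa, fun m' hm' F hF d => ?_⟩
    haveI : Module.Flat R (LocalizedModule (q0 m').primeCompl ((ι → MvPolynomial σ R) ⧸ N'' m)) :=
      hsub (show (⟨q0 m', inferInstance⟩ : PrimeSpectrum (MvPolynomial σ R)) ∈
        (PrimeSpectrum.basicOpen a : Set (PrimeSpectrum (MvPolynomial σ R))) from hm')
    obtain ⟨δ, hδ, hδmem⟩ := hTgen m F hF d
    have hδ0 : δ ≠ 0 := fun e => hδ (e ▸ m.asIdeal.zero_mem)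
    let z : LocalizedModule (q0 m').primeCompl ((ι → MvPolynomial σ R) ⧸ N'' m) :=
      LocalizedModule.mk (Submodule.Quotient.mk (comp d F)) 1
    have hz : δ • z = 0 := by
      simp only [z, LocalizedModule.smul'_mk]
      rw [← Submodule.Quotient.mk_smul, (Submodule.Quotient.mk_eq_zero _).2 hδmem,
        LocalizedModule.zero_mk]
    have hz0 : z = 0 :=
      (Module.Flat.isSMulRegular_of_isRegular (M := LocalizedModule (q0 m').primeCompl
        ((ι → MvPolynomial σ R) ⧸ N'' m)) (IsRegular.of_ne_zero hδ0)) (by simpa using hz)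
    obtain ⟨⟨w, hw⟩, hw'⟩ := mk_eq_zero.1 hz0
    rw [← Submodule.Quotient.mk_smul, Submodule.Quotient.mk_eq_zero] at hw'
    refine ⟨constantCoeff w, hw, ?_⟩
    have h1 := comp_mem_span (hThom m) hw' d
    obtain ⟨b, hb, hb0⟩ := comp_smul_of_homogeneous w (e := d) (F := comp d F)
      (by rw [comp_comp, if_pos rfl]) d
    rw [hb, hb0 rfl, ← MvPolynomial.algebraMap_eq, algebraMap_smul] at h1
    exact h1
  choose a ha hgen using key
  have hspan : Ideal.span (Set.range a) = ⊤ := by
    by_contra h
    obtain ⟨M, hM, hle'⟩ := Ideal.exists_le_maximal _ h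
    exact ha ⟨M, hM⟩ (hle' (Ideal.subset_span ⟨⟨M, hM⟩, rfl⟩))
  obtain ⟨s, hs⟩ := (Ideal.span_eq_top_iff_finite _).1 hspan
  choose pre hpre using fun (x : R) (hx : x ∈ (s : Set R)) => hs.1 hx
  let Tall : Finset (ι → MvPolynomial σ R) := s.attach.biUnion fun x => T (pre x.1 x.2)
  refine ⟨Tall, le_antisymm (Submodule.span_le.2 fun t ht => ?_) fun F hF => ?_⟩
  · obtain ⟨x, -, hx⟩ := mem_biUnion.1 ht
    exact hTN _ hx
  obtain ⟨D, hD⟩ := sum_comp F
  rw [← hD]
  refine Submodule.sum_mem _ fun d _ => ?_
  let I : Ideal R :=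
    { carrier := {r | r • comp d F ∈ Submodule.span (MvPolynomial σ R) (Tall : Set (ι → MvPolynomial σ R))}
      add_mem' := fun {x y} hx hy => by simpa [add_smul] using add_mem hx hy
      zero_mem' := by simp
      smul_mem' := fun c x hx => by
        simp only [Set.mem_setOf_eq, smul_eq_mul, mul_smul] at hx ⊢
        exact Submodule.smul_of_tower_mem _ c hx }
  suffices I = ⊤ by
    have h1 : (1 : R) • comp d F ∈ Submodule.span (MvPolynomial σ R) (Tall : Set (ι → MvPolynomial σ R)) :=
      (Ideal.eq_top_iff_one I).1 this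
    rwa [one_smul] at h1
  by_contra hI
  obtain ⟨M, hM, hIM⟩ := Ideal.exists_le_maximal I hI
  obtain ⟨x, hx, hxM⟩ : ∃ x ∈ s, x ∉ M := by
    by_contra hall
    push Not at hall
    exact hM.ne_top (top_le_iff.1 (hs.2 ▸ Ideal.span_le.2 fun x hx => hall x hx))
  obtain ⟨δ, hδ, hδmem⟩ := hgen (pre x hx) ⟨M, hM⟩ (by rw [hpre x hx]; exact hxM) F hF d
  exact hδ (hIM (Submodule.span_mono
    (Finset.coe_subset.2 (Finset.subset_biUnion_of_mem (fun x : {x // x ∈ s} => T (pre x.1 x.2))
      (mem_attach s ⟨x, hx⟩))) hδmem))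

end Groth.Agent.PruferCoh
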