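import Groth.Agent.PruferDim.Main

/-!
# Saturated submodules and torsion-free modules, locally at a prime of a Prüfer domain
-/

universe u

open Finset Matrix

namespace Groth.Agent.PruferCoh

variable {R : Type u} [CommRing R] [IsDomain R]
  (hR : ∀ (p : Ideal R) [p.IsPrime], ValuationRing (Localization.AtPrime p))
  (m : Ideal R) [m.IsMaximal]

include hR

/-- If `N'' ≤ N ≤ J → R` have the same image modulo `m` and `N` is saturated, they agree locally at `m`. -/
theorem exists_smul_mem {J : Type u} [Fintype J] (N N'' : Submodule R (J → R))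
    (hle : N'' ≤ N) (hsat : ∀ (c : R) (v : J → R), c ≠ 0 → c • v ∈ N → v ∈ N)
    (hgen : ∀ v ∈ N, ∃ g ∈ N'', ∀ j, v j - g j ∈ m) (f : J → R) (hf : f ∈ N) :
    ∃ δ ∉ m, δ • f ∈ N'' := by
  classical
  letI : Field (R ⧸ m) := Ideal.Quotient.field m
  let π := Ideal.Quotient.mk m
  let red : (J → R) → (J → R ⧸ m) := fun v j => π (v j)
  let W : Submodule (R ⧸ m) (J → R ⧸ m) :=
    { carrier := red '' (N'' : Set (J → R))
      add_mem' := by
        rintro _ _ ⟨a, ha, rfl⟩ ⟨b, hb, rfl⟩
        exact ⟨a + b, add_mem ha hb, funext fun j => map_add π _ _⟩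
      zero_mem' := ⟨0, zero_mem _, funext fun j => map_zero π⟩
      smul_mem' := by
        rintro c _ ⟨a, ha, rfl⟩
        obtain ⟨c, rfl⟩ := Ideal.Quotient.mk_surjective c
        exact ⟨c • a, N''.smul_mem c ha, funext fun j => map_mul π _ _⟩ }
  let k := Module.finrank (R ⧸ m) W
  let b := Module.finBasis (R ⧸ m) W
  choose g hgN hg using fun l : Fin k => (b l).2
  let G : (Fin k → R ⧸ m) →ₗ[R ⧸ m] (J → R ⧸ m) := W.subtype.comp b.equivFun.symm.toLinearMap
  have hG : LinearMap.ker G = ⊥ :=
    LinearMap.ker_eq_bot.2 (W.injective_subtype.comp b.equivFun.symm.injective)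
  obtain ⟨Lbar, hLG⟩ := G.exists_leftInverse_of_injective hG
  choose r hr using fun (l : Fin k) (j : J) =>
    Ideal.Quotient.mk_surjective (Lbar (Pi.single j 1) l)
  let L : (J → R) → (Fin k → R) := fun v => Matrix.of r *ᵥ v
  have hL : ∀ v, (fun l => π (L v l)) = Lbar (red v) := by
    intro v
    rw [← (Pi.basisFun (R ⧸ m) J).sum_repr (red v), map_sum]
    funext l
    simp only [L, Matrix.mulVec, dotProduct, Matrix.of_apply, map_sum, map_mul, Finset.sum_apply,
      map_smul, Pi.smul_apply, Pi.basisFun_repr, Pi.basisFun_apply, smul_eq_mul, red]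
    exact sum_congr rfl fun j _ => by rw [hr l j]; ring
  have hLg : ∀ l, Lbar (red (g l)) = Pi.single l 1 := fun l => by
    show Lbar ((fun j => π (g l j))) = _
    rw [show (fun j => π (g l j)) = G (Pi.single l 1) by
      rw [show (fun j => π (g l j)) = (b l : J → R ⧸ m) from hg l]
      simp [G]]
    exact LinearMap.congr_fun hLG _
  let A : Matrix (Fin k) (Fin k) R := Matrix.of fun i l => L (g l) i
  have hA : A.map π = 1 := by
    ext i l
    have := congrFun ((hL (g l)).trans (hLg l)) i
    rw [Matrix.one_apply]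
    simpa [A, Pi.single_apply] using this
  have hdet : A.det ∉ m := fun h => by
    have h1 : π A.det = 0 := Ideal.Quotient.eq_zero_iff_mem.2 h
    rw [RingHom.map_det] at h1
    rw [show π.mapMatrix A = 1 from hA, Matrix.det_one] at h1
    exact one_ne_zero h1
  refine ⟨A.det, hdet, ?_⟩
  let a := A.adjugate *ᵥ L f
  let h := A.det • f - ∑ l, a l • g l
  suffices h = 0 by
    rw [sub_eq_zero.1 this]
    exact N''.sum_mem fun l _ => N''.smul_mem _ (hgN l)
  have hLh : L h = 0 := by
    simp only [L, h, Matrix.mulVec_sub, Matrix.mulVec_smul, Matrix.mulVec_sum]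
    rw [sub_eq_zero]
    have h1 : A *ᵥ a = A.det • L f := by
      simp only [a, Matrix.mulVec_mulVec, Matrix.mul_adjugate, Matrix.smul_mulVec, Matrix.one_mulVec]
    rw [← h1]
    funext i
    simp only [Matrix.mulVec, dotProduct, A, Matrix.of_apply, L, Finset.sum_apply, Pi.smul_apply,
      smul_eq_mul]
    exact sum_congr rfl fun l _ => mul_comm _ _
  by_contra hne
  obtain ⟨j0, hj0⟩ := Function.ne_iff.1 hne
  obtain ⟨i, -, s, hs, hd⟩ := PruferDim.exists_dominant hR m univ ⟨j0, mem_univ _⟩ h
  choose! d hd using hd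
  have hs0 : s ≠ 0 := fun e => hs (e ▸ m.zero_mem)
  have hi0 : h i ≠ 0 := fun e => hj0 (by
    have := hd j0 (mem_univ _)
    rw [e, mul_zero] at this
    exact (mul_eq_zero.1 this).resolve_left hs0)
  let h' : J → R := Function.update d i s
  have hh' : h i • h' = s • h := by
    funext j
    by_cases hji : j = i
    · subst hji; simp [h', mul_comm]
    · simp [h', hji, hd j (mem_univ _), mul_comm]
  have hN : h' ∈ N := by
    refine hsat (h i) h' hi0 ?_
    rw [hh']
    exact N.smul_mem s (N.sub_mem (N.smul_mem _ hf) (N.sum_mem fun l _ => N.smul_mem _ (hle (hgN l))))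
  have hLh' : L h' = 0 := by
    have h1 : h i • L h' = s • L h := by
      simp only [L, ← Matrix.mulVec_smul, hh']
    rw [hLh, smul_zero] at h1
    exact (smul_eq_zero.1 h1).resolve_left hi0
  obtain ⟨w, hwN, hw⟩ := hgen h' hN
  have hred : red h' = red w := funext fun j => Ideal.Quotient.eq.2 (hw j)
  obtain ⟨c, hc⟩ : ∃ c, G c = red h' := ⟨b.equivFun ⟨red w, ⟨w, hwN, rfl⟩⟩, by
    rw [hred]; simp [G]⟩
  have hc0 : c = 0 := by
    have h1 := LinearMap.congr_fun hLG c
    rw [LinearMap.comp_apply, hc, ← hL h', LinearMap.id_apply] at h1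
    rw [← h1]
    funext l
    simp [hLh']
  have := congrFun hc i
  rw [hc0, map_zero] at this
  exact hs (Ideal.Quotient.eq_zero_iff_mem.1 (by simpa [red, h', π] using this.symm))

/-- A torsion-free module on which the elements outside `m` act bijectively is flat. -/
theorem flat_of_torsionFree_local {L : Type u} [AddCommGroup L] [Module R L]
    (htf : ∀ (c : R) (x : L), c ≠ 0 → c • x = 0 → x = 0)
    (hdiv : ∀ s ∉ m, ∀ x : L, ∃ y, x = s • y) : Module.Flat R L := by
  classical
  refine Module.Flat.of_forall_isTrivialRelation fun {l} {f} {x} hrel => ?_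
  by_cases hall : ∀ j, f j = 0
  · refine ⟨l, fun j k => if j = k then 1 else 0, x, fun j => ?_, fun k => ?_⟩
    · simp [ite_smul]
    · simp [hall]
  · push Not at hall
    obtain ⟨j0, hj0⟩ := hall
    obtain ⟨i, -, s, hs, hd⟩ := PruferDim.exists_dominant hR m univ ⟨j0, mem_univ _⟩ f
    choose! d hd using hd
    have hs0 : s ≠ 0 := fun e => hs (e ▸ m.zero_mem)
    have hi0 : f i ≠ 0 := fun e => hj0 (by
      have := hd j0 (mem_univ _)
      rw [e, mul_zero] at this
      exact (mul_eq_zero.1 this).resolve_left hs0)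
    choose y hy using fun j => hdiv s hs (x j)
    let a : Fin l → Fin l → R := fun j k =>
      if k = i then 0 else if j = i then -d k else if j = k then s else 0
    refine ⟨l, a, y, fun j => ?_, fun k => ?_⟩
    · by_cases hji : j = i
      · subst hji
        have h1 : s • x j + ∑ k ∈ univ.erase j, d k • x k = 0 := by
          refine htf (f j) _ hi0 ?_
          have h2 : s • ∑ k, f k • x k = 0 := by rw [hrel, smul_zero]
          rw [← add_sum_erase _ _ (mem_univ j), smul_add, smul_sum] at h2
          rw [smul_add, smul_sum, ← h2, smul_smul, smul_smul, mul_comm]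
          congr 1
          exact sum_congr rfl fun k _ => by rw [smul_smul, smul_smul, hd k (mem_univ _), mul_comm]
        have h3 : s • (x j + ∑ k ∈ univ.erase j, d k • y k) = 0 := by
          rw [smul_add, smul_sum, ← h1]
          congr 1
          exact sum_congr rfl fun k _ => by rw [smul_comm, ← hy]
        have h4 := eq_neg_of_add_eq_zero_left (htf s _ hs0 h3)
        rw [← add_sum_erase _ _ (mem_univ j), h4, ← sum_neg_distrib]
        simp only [a, if_true, zero_smul, zero_add]
        exact sum_congr rfl fun k hk => by rw [if_neg (mem_erase.1 hk).1, neg_smul]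
      · rw [sum_eq_single j]
        · simp [a, hji, ← hy]
        · intro k _ hkj
          simp [a, hji, Ne.symm hkj]
        · simp
    · by_cases hki : k = i
      · simp [a, hki]
      · rw [← add_sum_erase _ _ (mem_univ i), sum_eq_single k]
        · simp only [a, if_neg hki, if_true]
          linear_combination hd k (mem_univ _)
        · intro j hj hjk
          simp [a, hki, (mem_erase.1 hj).1, hjk]
        · simp [hki]

end Groth.Agent.PruferCoh
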