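import Groth.Agent.PruferCoh.Graded

/-!
# Saturated submodules over polynomial rings over Prüfer domains; coherence

`fg_of_saturated`; `finitePresentation_of_torsionFree`; `finitePresentation_ideal`.
-/

universe u

open Finset MvPolynomial

set_option linter.style.haveILetI false

namespace Groth.Agent.PruferCoh

variable {R : Type u} [CommRing R] [IsDomain R]
  (hR : ∀ (p : Ideal R) [p.IsPrime], ValuationRing (Localization.AtPrime p))

include hR

set_option maxHeartbeats 1000000 in
theorem fg_of_saturated {n : ℕ} {ι : Type} [Fintype ι]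
    (N : Submodule (MvPolynomial (Fin n) R) (ι → MvPolynomial (Fin n) R))
    (hsat : ∀ (c : R) (F : ι → MvPolynomial (Fin n) R), c ≠ 0 → c • F ∈ N → F ∈ N) : N.FG := by
  classical
  let σ := Option (Fin n)
  obtain ⟨ε, hε⟩ : ∃ ε : MvPolynomial σ R →ₐ[R] MvPolynomial (Fin n) R,
      ε = aeval (fun o => o.elim 1 X) := ⟨_, rfl⟩
  obtain ⟨ev, hev'⟩ : ∃ ev : (ι → MvPolynomial σ R) →ₗ[R] (ι → MvPolynomial (Fin n) R),
      ∀ (F : ι → MvPolynomial σ R) (i : ι), ev F i = ε (F i) :=
    ⟨ε.toLinearMap.compLeft ι, fun F i => rfl⟩
  have hev_smul : ∀ (a : MvPolynomial σ R) (F : ι → MvPolynomial σ R), ev (a • F) = ε a • ev F :=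
    fun a F => funext fun i => by
      rw [hev', Pi.smul_apply, Pi.smul_apply, hev', smul_eq_mul, smul_eq_mul, map_mul]
  have hmul : ∀ (a : MvPolynomial σ R) (F : ι → MvPolynomial σ R),
      (∀ d, ev (comp d F) ∈ N) → ∀ d, ev (comp d (a • F)) ∈ N := by
    intro a F hF d
    obtain ⟨D, hD⟩ := sum_comp F
    rw [← hD, smul_sum, map_sum, map_sum]
    refine N.sum_mem fun e _ => ?_
    obtain ⟨b, hb, -⟩ := comp_smul_of_homogeneous a (F := comp e F) (e := e) (by rw [comp_comp, if_pos rfl]) d
    rw [hb, hev_smul]
    exact N.smul_mem _ (hF e)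
  let N' : Submodule (MvPolynomial σ R) (ι → MvPolynomial σ R) :=
    { carrier := {F | ∀ d, ev (comp d F) ∈ N}
      add_mem' := fun {x y} hx hy d => by rw [map_add, map_add]; exact add_mem (hx d) (hy d)
      zero_mem' := fun d => by rw [map_zero, map_zero]; exact zero_mem N
      smul_mem' := fun a F hF => hmul a F hF }
  have hev : ∀ F ∈ N', ev F ∈ N := fun F hF => by
    obtain ⟨D, hD⟩ := sum_comp F
    rw [← hD, map_sum]
    exact N.sum_mem fun d _ => hF d
  obtain ⟨T, hT⟩ := fg_of_graded hR N'
    (fun F hF d e => by
      rw [comp_comp]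
      split
      · exact hF d
      · rw [map_zero]; exact zero_mem N)
    (fun c F hc hF d => hsat c _ hc (by
      have := hF d
      rwa [map_smul, map_smul] at this))
  refine ⟨T.image ev, le_antisymm (Submodule.span_le.2 fun f hf => ?_) fun f hf => ?_⟩
  · obtain ⟨t, ht, rfl⟩ := mem_image.1 hf
    exact hev t (hT ▸ Submodule.subset_span ht)
  -- homogenise
  let D := univ.sup fun i => (f i).totalDegree
  let F : ι → MvPolynomial σ R := fun i =>
    ∑ e ∈ (f i).support, X none ^ (D - e.degree) * rename some (monomial e ((f i).coeff e))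
  have hevF : ev F = f := funext fun i => by
    rw [hev']
    conv_rhs => rw [(f i).as_sum]
    simp only [F, map_sum]
    refine sum_congr rfl fun e _ => ?_
    rw [map_mul, map_pow]
    simp only [hε, aeval_X, Option.elim, one_pow, one_mul, aeval_rename]
    exact aeval_X_left_apply _
  have hcompF : ∀ d, comp d F = if d = D then F else 0 := fun d => funext fun i => by
    have hFi : (F i).IsHomogeneous D := IsHomogeneous.sum _ _ _ fun e he => by
      have h1 : e.degree ≤ D :=
        (le_totalDegree he).trans (le_sup (f := fun i => (f i).totalDegree) (mem_univ i))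
      have := (isHomogeneous_X_pow (R := R) (none : σ) (D - e.degree)).mul
        ((isHomogeneous_monomial ((f i).coeff e) (rfl : e.degree = e.degree)).rename_isHomogeneous (f := some))
      rwa [Nat.sub_add_cancel h1] at this
    rw [comp_apply, homogeneousComponent_of_mem hFi]
    split <;> rfl
  have hFN : F ∈ N' := fun d => by
    rw [hcompF]
    split
    · rw [hevF]; exact hf
    · rw [map_zero]; exact zero_mem N
  rw [← hevF]
  rw [← hT] at hFN
  clear hevF hcompF
  generalize F = G at hFN ⊢
  induction hFN using Submodule.span_induction with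
  | mem t ht => exact Submodule.subset_span (mem_coe.2 (mem_image_of_mem ev ht))
  | zero => rw [map_zero]; exact zero_mem _
  | add x y _ _ hx hy => rw [map_add]; exact add_mem hx hy
  | smul a x _ hx => rw [hev_smul]; exact Submodule.smul_mem _ _ hx

/-- A finite module over `R[X]`, torsion-free over the Prüfer domain `R`, is finitely presented. -/
theorem finitePresentation_of_torsionFree {n : ℕ} (M : Type u) [AddCommGroup M]
    [Module (MvPolynomial (Fin n) R) M] [Module.Finite (MvPolynomial (Fin n) R) M]
    (htf : ∀ (c : R) (x : M), c ≠ 0 → (C c : MvPolynomial (Fin n) R) • x = 0 → x = 0) :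
    Module.FinitePresentation (MvPolynomial (Fin n) R) M := by
  obtain ⟨k, f, hf⟩ := Module.Finite.exists_fin' (MvPolynomial (Fin n) R) M
  refine Module.finitePresentation_of_surjective f hf (fg_of_saturated hR _ fun c F hc hF => ?_)
  rw [LinearMap.mem_ker] at hF ⊢
  refine htf c _ hc ?_
  rwa [← map_smul, ← MvPolynomial.algebraMap_eq, algebraMap_smul]

/-- Finitely presented algebras over Prüfer domains are coherent. -/
theorem finitePresentation_ideal (A : Type u) [CommRing A] [Algebra R A]
    [Algebra.FinitePresentation R A] (I : Ideal A) (hI : I.FG) : Module.FinitePresentation A I := by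
  classical
  obtain ⟨n, φ, hφ, hker⟩ := Algebra.FinitePresentation.out (R := R) (A := A)
  algebraize [φ.toRingHom]
  let P := MvPolynomial (Fin n) R
  let I' : Ideal P := Ideal.comap φ.toRingHom I
  have hI' : I'.FG := Ideal.fg_of_fg_map_of_fg_inf_ker_of_surjective (f := φ.toRingHom)
    (by rw [show Ideal.map φ.toRingHom I' = I from Ideal.map_comap_of_surjective φ.toRingHom hφ I]; exact hI)
    (by
      rw [inf_eq_right.2 (show RingHom.ker φ.toRingHom ≤ I' from fun x hx => by
        show φ.toRingHom x ∈ I
        rw [RingHom.mem_ker.1 hx]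
        exact I.zero_mem)]
      exact hker) hφ
  haveI : Module.Finite P I' := Module.Finite.iff_fg.2 hI'
  haveI : Module.FinitePresentation P I' := finitePresentation_of_torsionFree hR I'
    fun c x hc hx => by
      have h1 : (C c : P) * (x : P) = 0 := congrArg Subtype.val hx
      exact Subtype.ext ((mul_eq_zero.1 h1).resolve_left fun h => hc (C_eq_zero.1 h))
  let l : I' →ₗ[P] I :=
    { toFun := fun x => ⟨φ x.1, x.2⟩
      map_add' := fun x y => Subtype.ext (map_add φ _ _)
      map_smul' := fun a x => Subtype.ext (map_mul φ _ _) }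
  have hl : Function.Surjective l := fun y => by
    obtain ⟨x, hx⟩ := hφ y.1
    exact ⟨⟨x, show φ x ∈ I by rw [hx]; exact y.2⟩, Subtype.ext hx⟩
  haveI : Module.FinitePresentation P I := Module.finitePresentation_of_surjective l hl (by
    refine Submodule.fg_of_fg_map_injective I'.subtype I'.injective_subtype ?_
    have : (LinearMap.ker l).map I'.subtype = RingHom.ker φ.toRingHom := by
      ext x
      simp only [Submodule.mem_map, LinearMap.mem_ker, RingHom.mem_ker]
      constructor
      · rintro ⟨y, hy, rfl⟩
        exact congrArg Subtype.val hy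
      · intro hx
        exact ⟨⟨x, show φ x ∈ I by rw [show φ x = 0 from hx]; exact I.zero_mem⟩, Subtype.ext hx, rfl⟩
    rw [this]
    exact hker)
  refine FinitePresentation.of_isBaseChange (R := P) (A := A) (LinearMap.id : I →ₗ[P] I) ?_
  refine IsBaseChange.of_lift_unique _ fun Q _ _ _ _ g => ?_
  let G : I →ₗ[A] Q :=
    { toFun := g
      map_add' := g.map_add
      map_smul' := fun a x => by
        obtain ⟨a, rfl⟩ := hφ a
        show g (algebraMap P A a • x) = algebraMap P A a • g x
        rw [algebraMap_smul, algebraMap_smul, map_smul] }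
  exact ⟨G, LinearMap.ext fun _ => rfl, fun G' h => LinearMap.ext fun x => LinearMap.congr_fun h x⟩

end Groth.Agent.PruferCoh
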